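import Groth.Agent.Lib.Hens.FiniteType
import Groth.Agent.Lib.Weight4.NbhdFinite
import Groth.Agent.Lib.GrpdEt19.Nbhd
import Mathlib.AlgebraicGeometry.Morphisms.QuasiFinite
import Mathlib.AlgebraicGeometry.ZariskisMainTheorem

/-! # Finite part of a quasi-finite separated scheme over a henselian local ring -/

set_option autoImplicit false
set_option linter.style.haveILetI false
universe u

open AlgebraicGeometry CategoryTheory Limits IsLocalRing

namespace Groth.Agent.HensQF6

variable {R : Type u} [CommRing R]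

theorem isClosed_of_isFinite_ι {X Y : Scheme.{u}} (f : X ⟶ Y) [IsSeparated f] (W : X.Opens)
    [IsFinite (W.ι ≫ f)] : IsClosed (W : Set X) := by
  haveI : IsFinite W.ι := IsFinite.of_comp W.ι f
  rw [← Scheme.Opens.range_ι]
  exact W.ι.isClosedMap.isClosed_range

section
variable [IsLocalRing R]

theorem closedPoint_mem_of_isClosed {Z : Set (Spec (CommRingCat.of R))} (hZ : IsClosed Z) (hne : Z.Nonempty) :
    closedPoint R ∈ Z := by
  obtain ⟨z, hz⟩ := hne
  exact (IsLocalRing.specializes_closedPoint z).mem_closed hZ hz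

theorem exists_over_closedPoint {W : Scheme.{u}} (g : W ⟶ Spec (CommRingCat.of R)) [UniversallyClosed g]
    {C : Set W} (hC : IsClosed C) (hne : C.Nonempty) : ∃ x ∈ C, g.base x = closedPoint R :=
  closedPoint_mem_of_isClosed (g.isClosedMap _ hC) (hne.image g.base)

/-- A closed set meeting an open subscheme that is proper over the base has a point over the closed point. -/
theorem exists_mem_over_closedPoint {X : Scheme.{u}} (f : X ⟶ Spec (CommRingCat.of R)) (W : X.Opens)
    [UniversallyClosed (W.ι ≫ f)] {C : Set X} (hC : IsClosed C) {x : X} (hxW : x ∈ W) (hxC : x ∈ C) :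
    ∃ y, y ∈ W ∧ y ∈ C ∧ f.base y = closedPoint R := by
  obtain ⟨y, hy, hy'⟩ := exists_over_closedPoint (W.ι ≫ f) (hC.preimage W.ι.continuous)
    ⟨⟨x, hxW⟩, hxC⟩
  exact ⟨y.1, y.2, hy, hy'⟩

end

variable [HenselianLocalRing R]

theorem exists_affine_piece {X : Scheme.{u}} (f : X ⟶ Spec (CommRingCat.of R))
    [LocallyQuasiFinite f] [LocallyOfFiniteType f] {U : X.Opens} (hU : IsAffineOpen U) :
    ∃ V : X.Opens, V ≤ U ∧ IsFinite (V.ι ≫ f) ∧ ∀ x ∈ U, f.base x = closedPoint R → x ∈ V := by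
  let S : CommRingCat.{u} := Γ(X, U)
  obtain ⟨φ, hφ⟩ := Spec.map_surjective (hU.fromSpec ≫ f)
  have h1 : LocallyOfFiniteType (Spec.map φ) := hφ ▸ inferInstance
  have h2 : LocallyQuasiFinite (Spec.map φ) := hφ ▸ inferInstance
  letI : Algebra R S := φ.hom.toAlgebra
  haveI : Algebra.FiniteType R S :=
    (HasRingHomProperty.Spec_iff (P := @LocallyOfFiniteType)).1 h1
  haveI : Algebra.QuasiFinite R S :=
    (HasRingHomProperty.Spec_iff (P := @LocallyQuasiFinite)).1 h2
  obtain ⟨e, he, hfin, hmem⟩ := Hens.exists_finite_split R S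
  let π : S ⟶ CommRingCat.of (S ⧸ Ideal.span ({1 - e} : Set S)) := CommRingCat.ofHom (Ideal.Quotient.mk _)
  haveI : IsLocalization.Away e (S ⧸ Ideal.span ({1 - e} : Set S)) :=
    IsLocalization.Away.quotient_of_isIdempotentElem he
  haveI : IsOpenImmersion (Spec.map π) :=
    IsOpenImmersion.of_isLocalization (S := S ⧸ Ideal.span ({1 - e} : Set S)) e
  let j := Spec.map π ≫ hU.fromSpec
  have hfj : IsFinite (j ≫ f) := by
    rw [Category.assoc, ← hφ, ← Spec.map_comp, IsFinite.SpecMap_iff]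
    exact hfin
  refine ⟨j.opensRange, ?_, ?_, fun x hxU hx => ?_⟩
  · rintro x ⟨y, rfl⟩
    exact hU.range_fromSpec.subset ⟨_, rfl⟩
  · rw [← Scheme.Hom.isoOpensRange_inv_comp j, Category.assoc]
    infer_instance
  · obtain ⟨q, rfl⟩ : x ∈ Set.range hU.fromSpec := hU.range_fromSpec.symm ▸ hxU
    have hq : (Spec.map φ).base q = closedPoint R := by rw [hφ]; exact hx
    have hlie : q.asIdeal.LiesOver (maximalIdeal R) := ⟨(congrArg PrimeSpectrum.asIdeal hq).symm⟩
    haveI : q.asIdeal.IsPrime := q.2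
    have he' : e ∉ q.asIdeal := hmem q.asIdeal hlie inferInstance
    have : (q : PrimeSpectrum S) ∈ Set.range (PrimeSpectrum.comap π.hom) := by
      rw [show π.hom = algebraMap S (S ⧸ Ideal.span ({1 - e} : Set S)) from rfl,
        PrimeSpectrum.localization_away_comap_range _ e]
      exact he'
    obtain ⟨y, rfl⟩ := this
    exact ⟨y, rfl⟩

theorem exists_finitePart {X : Scheme.{u}} (f : X ⟶ Spec (CommRingCat.of R))
    [LocallyQuasiFinite f] [LocallyOfFiniteType f] [QuasiCompact f] [IsSeparated f] :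
    ∃ W : X.Opens, IsClosed (W : Set X) ∧ IsFinite (W.ι ≫ f) ∧
      ∀ x : X, f.base x = closedPoint R → x ∈ W := by
  haveI : CompactSpace X := QuasiCompact.compactSpace_of_compactSpace f
  let 𝒰 := X.affineCover.finiteSubcover
  let e := Fintype.equivFin 𝒰.I₀
  choose V _ hVfin hV using fun i => exists_affine_piece f
    (U := (𝒰.f i).opensRange) (isAffineOpen_opensRange _)
  have hW : IsFinite ((⨆ k, V (e.symm k)).ι ≫ f) := GrpdEt19.isFinite_iSup f _ _ fun k => hVfin _
  refine ⟨⨆ k, V (e.symm k), isClosed_of_isFinite_ι f _, hW, fun x hx => TopologicalSpace.Opens.mem_iSup.2 ?_⟩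
  obtain ⟨i, y, hy⟩ := 𝒰.exists_eq x
  refine ⟨e i, ?_⟩
  rw [e.symm_apply_apply]
  exact hV i x ⟨y, hy⟩ hx

end Groth.Agent.HensQF6
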