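import Groth.Agent.Lib.HensQF6.Basic
import Groth.Agent.Lib.Hens.Pair
import Mathlib.AlgebraicGeometry.Morphisms.Etale

/-! # Sections of étale schemes over henselian local rings -/

set_option autoImplicit false
set_option linter.style.haveILetI false
set_option backward.isDefEq.respectTransparency.types false
universe u

open AlgebraicGeometry CategoryTheory Limits IsLocalRing

namespace Groth.Agent.HensQF6

variable {R : Type u} [CommRing R] [IsLocalRing R]

/-- A morphism from a local scheme lands in every open containing the image of the closed point. -/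
theorem range_subset_of_closedPoint_mem {X : Scheme.{u}} (s : Spec (CommRingCat.of R) ⟶ X) (U : X.Opens)
    (h : s.base (closedPoint R) ∈ U) : Set.range s ⊆ (U : Set X) := by
  rintro _ ⟨z, rfl⟩
  exact ((IsLocalRing.specializes_closedPoint z).map s.continuous).mem_open U.2 h

variable {X : Scheme.{u}} (f : X ⟶ Spec (CommRingCat.of R))

/-- Through every point over the closed point with trivial residue extension passes exactly one section. -/
theorem existsUnique_section [HenselianLocalRing R] [Etale f]
    (t : Spec (CommRingCat.of (ResidueField R)) ⟶ X)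
    (ht : t ≫ f = Spec.map (CommRingCat.ofHom (residue R))) :
    ∃! s : Spec (CommRingCat.of R) ⟶ X,
      s ≫ f = 𝟙 _ ∧ Spec.map (CommRingCat.ofHom (residue R)) ≫ s = t := by
  let x := t.base (closedPoint (ResidueField R))
  obtain ⟨U, hU, hxU, -⟩ := exists_isAffineOpen_mem_and_subset (X := X) (x := x) (U := ⊤) trivial
  let ι := hU.fromSpec
  obtain ⟨φ, hφ⟩ := Spec.map_surjective (ι ≫ f)
  have h1 : Etale (Spec.map φ) := hφ ▸ inferInstance
  letI : Algebra R Γ(X, U) := φ.hom.toAlgebra
  haveI : Algebra.Etale R Γ(X, U) := (HasRingHomProperty.Spec_iff (P := @Etale)).1 h1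
  have hrt : Set.range t ⊆ Set.range ι := by
    rw [hU.range_fromSpec]
    exact range_subset_of_closedPoint_mem t U hxU
  obtain ⟨ψ, hψ⟩ := Spec.map_surjective (IsOpenImmersion.lift ι t hrt)
  have hψt : Spec.map ψ ≫ ι = t := by rw [hψ, IsOpenImmersion.lift_fac]
  have hψφ : φ ≫ ψ = CommRingCat.ofHom (residue R) := Spec.map_injective (by
    rw [Spec.map_comp, hφ, reassoc_of% hψt, ht])
  let σ : Γ(X, U) →ₐ[R] R ⧸ maximalIdeal R :=
    { ψ.hom with commutes' := fun r => congr($(hψφ).hom r) }
  obtain ⟨τ, hτ, huniq⟩ := Hens.existsUnique_lift_of_henselianRing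
    (inferInstanceAs (HenselianRing R (maximalIdeal R))) σ
  have hτ1 : φ ≫ CommRingCat.ofHom τ.toRingHom = 𝟙 _ := by ext r; exact τ.commutes r
  have hτ2 : CommRingCat.ofHom τ.toRingHom ≫ CommRingCat.ofHom (residue R) = ψ := by
    ext b; exact congr($hτ b)
  refine ⟨Spec.map (CommRingCat.ofHom τ.toRingHom) ≫ ι, ⟨?_, ?_⟩, fun s ⟨hs1, hs2⟩ => ?_⟩
  · rw [Category.assoc, ← hφ, ← Spec.map_comp, hτ1, Spec.map_id]
  · rw [← Category.assoc, ← Spec.map_comp, hτ2, hψt]
  · have hrs : Set.range s ⊆ Set.range ι := by
      rw [hU.range_fromSpec]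
      refine range_subset_of_closedPoint_mem s U ?_
      have : s.base (closedPoint R) = x := by
        show s.base (closedPoint R) = t.base (closedPoint (ResidueField R))
        rw [← hs2, Scheme.Hom.comp_apply]
        exact congrArg s.base (IsLocalRing.comap_closedPoint (residue R)).symm
      rw [this]; exact hxU
    obtain ⟨τ', hτ'⟩ := Spec.map_surjective (IsOpenImmersion.lift ι s hrs)
    have hτ's : Spec.map τ' ≫ ι = s := by rw [hτ', IsOpenImmersion.lift_fac]
    have e1 : φ ≫ τ' = 𝟙 _ := Spec.map_injective (by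
      rw [Spec.map_comp, hφ, reassoc_of% hτ's, hs1, Spec.map_id])
    have e2 : τ' ≫ CommRingCat.ofHom (residue R) = ψ := Spec.map_injective (by
      rw [← cancel_mono ι, Spec.map_comp, Category.assoc, hτ's, hs2, hψt])
    have e3 := huniq { τ'.hom with commutes' := fun r => congr($(e1).hom r) }
      (AlgHom.ext fun b => congr($(e2).hom b))
    rw [← hτ's]
    congr 2
    ext b; exact congr($e3 b)

/-- Over a separably closed residue field, every point of an étale scheme over the closed point is rational. -/
theorem exists_residue_point [Etale f] [IsSepClosed (ResidueField R)] (x : X) (hx : f.base x = closedPoint R) :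
    ∃ t : Spec (CommRingCat.of (ResidueField R)) ⟶ X,
      t ≫ f = Spec.map (CommRingCat.ofHom (residue R)) ∧ t.base (closedPoint _) = x := by
  obtain ⟨U, hU, hxU, -⟩ := exists_isAffineOpen_mem_and_subset (X := X) (x := x) (U := ⊤) trivial
  let ι := hU.fromSpec
  obtain ⟨φ, hφ⟩ := Spec.map_surjective (ι ≫ f)
  have h1 : Etale (Spec.map φ) := hφ ▸ inferInstance
  obtain ⟨y, hy⟩ : x ∈ Set.range ι := hU.range_fromSpec.symm ▸ hxU
  let q : PrimeSpectrum Γ(X, U) := y
  letI : Algebra R Γ(X, U) := φ.hom.toAlgebra
  haveI : Algebra.Etale R Γ(X, U) := (HasRingHomProperty.Spec_iff (P := @Etale)).1 h1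
  have hq : maximalIdeal R = q.asIdeal.comap (algebraMap R Γ(X, U)) := by
    have : (Spec.map φ).base y = closedPoint R := by rw [hφ, Scheme.Hom.comp_apply, hy, hx]
    exact (congrArg PrimeSpectrum.asIdeal this).symm
  let j : ResidueField R →+* q.asIdeal.ResidueField :=
    Ideal.Quotient.lift (maximalIdeal R) (algebraMap R q.asIdeal.ResidueField) fun r hr => by
      rw [IsScalarTower.algebraMap_apply R Γ(X, U), Ideal.algebraMap_residueField_eq_zero]
      exact hq.le hr
  letI : Algebra (ResidueField R) q.asIdeal.ResidueField := j.toAlgebra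
  haveI : IsScalarTower R (ResidueField R) q.asIdeal.ResidueField := .of_algebraMap_eq fun r => rfl
  haveI : Algebra.EssFiniteType R q.asIdeal.ResidueField := Algebra.EssFiniteType.comp R Γ(X, U) _
  haveI : Algebra.EssFiniteType (ResidueField R) q.asIdeal.ResidueField :=
    Algebra.EssFiniteType.of_comp R _ _
  haveI : Algebra.FormallyUnramified Γ(X, U) (Localization.AtPrime q.asIdeal) :=
    Algebra.FormallyUnramified.of_isLocalization q.asIdeal.primeCompl
  haveI : Algebra.FormallyUnramified (Localization.AtPrime q.asIdeal) q.asIdeal.ResidueField :=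
    Algebra.FormallyUnramified.of_surjective (Algebra.ofId _ _) IsLocalRing.residue_surjective
  haveI : Algebra.FormallyUnramified Γ(X, U) q.asIdeal.ResidueField :=
    .comp _ (Localization.AtPrime q.asIdeal) _
  haveI : Algebra.FormallyUnramified R q.asIdeal.ResidueField := .comp R Γ(X, U) _
  haveI : Algebra.FormallyUnramified (ResidueField R) q.asIdeal.ResidueField :=
    .of_restrictScalars R _ _
  haveI : Algebra.IsSeparable (ResidueField R) q.asIdeal.ResidueField :=
    Algebra.FormallyUnramified.isSeparable _ _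
  let e := RingEquiv.ofBijective j (IsSepClosed.algebraMap_bijective (ResidueField R) q.asIdeal.ResidueField)
  let ψ : Γ(X, U) →+* ResidueField R := e.symm.toRingHom.comp (algebraMap Γ(X, U) q.asIdeal.ResidueField)
  refine ⟨Spec.map (CommRingCat.ofHom ψ) ≫ ι, ?_, ?_⟩
  · rw [Category.assoc, ← hφ, ← Spec.map_comp]
    congr 1
    ext r
    exact e.injective (by simp only [CommRingCat.hom_comp, RingHom.comp_apply, CommRingCat.hom_ofHom]; show e (e.symm (algebraMap Γ(X, U) _ (algebraMap R Γ(X, U) r))) = algebraMap R _ r; rw [e.apply_symm_apply, ← IsScalarTower.algebraMap_apply])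
  · rw [Scheme.Hom.comp_apply, ← hy]
    refine congrArg ι.base (PrimeSpectrum.ext (Ideal.ext fun b => ?_))
    show ψ b ∈ maximalIdeal (ResidueField R) ↔ b ∈ q.asIdeal
    rw [IsLocalRing.maximalIdeal_eq_bot, Ideal.mem_bot, ← Ideal.algebraMap_residueField_eq_zero (I := q.asIdeal)]
    exact e.symm.map_eq_zero_iff

end Groth.Agent.HensQF6
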